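import Mathlib
import Cfsg.Agent.Lib.Helper98.LieStruct
import Cfsg.Agent.Lib.Helper41.PSL2Order
import Cfsg.Agent.Lib.Helper41.PSL2Solv
import Cfsg.Agent.Lib.Helper41.PSL2Class
import Cfsg.Agent.Lib.Helper41.SL2Cent
import Cfsg.Agent.Lib.Helper41.DicksonShapeU
import Cfsg.Agent.S0494

set_option autoImplicit false

namespace Cfsg.Agent.Lib.Helper98

open Matrix Cfsg.Agent.Lib.Helper41 Cfsg.Agent.Lib.Helper5.SL2

section char2

variable {F : Type*} [Field F]

/-- in characteristic two the projection `SL₂(F) → PSL₂(F)` is injective -/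
theorem mk_injective_char2 [CharP F 2] :
    Function.Injective (QuotientGroup.mk' (Subgroup.center (Matrix.SpecialLinearGroup (Fin 2) F))) := by
  intro U V h
  have h' : (QuotientGroup.mk U : Matrix.ProjectiveSpecialLinearGroup (Fin 2) F) =
      QuotientGroup.mk V := h
  rw [psl2_mk_eq_iff] at h'
  rcases h' with h' | h'
  · exact Subtype.ext h'.symm
  · apply Subtype.ext
    rw [h']
    ext i j
    simp [CharTwo.neg_eq]

/-- in characteristic two every non-trivial element of `PSL₂(F)` is inverted by some element -/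
theorem exists_inverting_char2 [CharP F 2] {a : Matrix.ProjectiveSpecialLinearGroup (Fin 2) F}
    (ha : a ≠ 1) : ∃ g : Matrix.ProjectiveSpecialLinearGroup (Fin 2) F, g * a * g⁻¹ = a⁻¹ := by
  have h2 : (2 : F) = 0 := CharTwo.two_eq_zero
  obtain ⟨A, rfl⟩ := QuotientGroup.mk_surjective a
  have hA : A ∉ Subgroup.center (Matrix.SpecialLinearGroup (Fin 2) F) := by
    rwa [Ne, QuotientGroup.eq_one_iff] at ha
  obtain ⟨P, c, hc, hB⟩ := conj_companion A hA
  obtain ⟨B, hBdef⟩ : ∃ B : Matrix.SpecialLinearGroup (Fin 2) F, B = P * A * P⁻¹ := ⟨_, rfl⟩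
  rw [← hBdef] at hB
  obtain ⟨Q, hQdef⟩ : ∃ Q : Matrix.SpecialLinearGroup (Fin 2) F, Q = lSL (c * A.1.trace) :=
    ⟨_, rfl⟩
  have hQ : Q * B = B⁻¹ * Q := by
    apply Subtype.ext
    rw [Matrix.SpecialLinearGroup.coe_mul, Matrix.SpecialLinearGroup.coe_mul,
      Matrix.SpecialLinearGroup.coe_inv, hB, hQdef, lSL_coe, Matrix.adjugate_fin_two,
      Matrix.mul_fin_two, Matrix.mul_fin_two]
    ext i j
    fin_cases i <;> fin_cases j
    · simp
      field_simp
      linear_combination (-A.1.trace) * h2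
    · simp
      field_simp
      linear_combination (-1 : F) * h2
    · simp
      linear_combination c * h2
    · simp
      field_simp
      ring
  have h1 : Q * B * Q⁻¹ = B⁻¹ := by
    rw [hQ]
    group
  refine ⟨QuotientGroup.mk (P⁻¹ * Q * P), ?_⟩
  have e : (QuotientGroup.mk (P⁻¹ * Q * P) : Matrix.ProjectiveSpecialLinearGroup (Fin 2) F) *
      QuotientGroup.mk A * (QuotientGroup.mk (P⁻¹ * Q * P))⁻¹ =
      QuotientGroup.mk (P⁻¹ * Q * P * A * (P⁻¹ * Q * P)⁻¹) := rfl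
  rw [e]
  have e2 : P⁻¹ * Q * P * A * (P⁻¹ * Q * P)⁻¹ = A⁻¹ := by
    calc P⁻¹ * Q * P * A * (P⁻¹ * Q * P)⁻¹ = P⁻¹ * (Q * (P * A * P⁻¹) * Q⁻¹) * P := by group
      _ = P⁻¹ * (P * A * P⁻¹)⁻¹ * P := by rw [← hBdef, h1]
      _ = A⁻¹ := by group
  rw [e2]
  rfl

/-- in characteristic two a non-unipotent torus is properly contained in its normalizer -/
theorem exists_normalizing_not_mem_char2 [CharP F 2]
    {a : Matrix.ProjectiveSpecialLinearGroup (Fin 2) F} (ha : a ≠ 1) (haU : ¬ IsUni a) :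
    ∃ g : Matrix.ProjectiveSpecialLinearGroup (Fin 2) F,
      g * a * g⁻¹ ∈ torusOf a ∧ g ∉ torusOf a := by
  obtain ⟨g, hg⟩ := exists_inverting_char2 ha
  refine ⟨g, by rw [hg]; exact inv_mem (self_mem_torusOf a), fun hmem => ?_⟩
  have hc := torusOf_comm ha hmem (self_mem_torusOf a)
  apply haU
  apply isUni_of_pow 2 ha 1
  have h3 : g * a * g⁻¹ = a := by
    rw [hc]
    group
  rw [h3] at hg
  rw [pow_one, pow_two]
  calc a * a = a * a⁻¹ := by rw [← hg]
    _ = 1 := mul_inv_cancel a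

/-- in characteristic two a non-unipotent torus has order `q - 1` or `q + 1` -/
theorem card_torusOf_char2 [Fintype F] [CharP F 2]
    {a : Matrix.ProjectiveSpecialLinearGroup (Fin 2) F} (ha : a ≠ 1) (haU : ¬ IsUni a) :
    Nat.card (torusOf a) = Fintype.card F - 1 ∨ Nat.card (torusOf a) = Fintype.card F + 1 := by
  have h2 : (2 : F) = 0 := CharTwo.two_eq_zero
  obtain ⟨A, rfl⟩ := QuotientGroup.mk_surjective a
  have hA : A ∉ Subgroup.center (Matrix.SpecialLinearGroup (Fin 2) F) := by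
    rwa [Ne, QuotientGroup.eq_one_iff] at ha
  have hτ : A.1.trace ≠ 0 := by
    intro h0
    apply haU
    rw [isUni_mk]
    refine ⟨hA, ?_⟩
    rw [h0]
    linear_combination (-2 : F) * h2
  rw [torusOf_mk]
  unfold cenIm
  rw [Subgroup.card_map_of_injective mk_injective_char2, card_centralizer_eq_card_conic A hA]
  by_cases hs : ∃ l : F, l * l + A.1.trace * l + 1 = 0
  · obtain ⟨l, hl⟩ := hs
    left
    apply card_conic_split h2 hl
    rintro rfl
    apply hτ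
    linear_combination hl - h2
  · right
    push Not at hs
    exact card_conic_nonsplit h2 hs

end char2

section subfield

/-- the subfield of fixed points of `x ↦ x ^ (2 ^ s)` in characteristic two -/
def powFix (F : Type*) [Field F] [CharP F 2] (s : ℕ) : Subfield F where
  carrier := {x | x ^ (2 ^ s) = x}
  mul_mem' := by
    intro x y hx hy
    have hx' : x ^ (2 ^ s) = x := hx
    have hy' : y ^ (2 ^ s) = y := hy
    show (x * y) ^ (2 ^ s) = x * y
    rw [mul_pow, hx', hy']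
  one_mem' := by
    show (1 : F) ^ (2 ^ s) = 1
    exact one_pow _
  add_mem' := by
    intro x y hx hy
    have hx' : x ^ (2 ^ s) = x := hx
    have hy' : y ^ (2 ^ s) = y := hy
    show (x + y) ^ (2 ^ s) = x + y
    rw [add_pow_char_pow, hx', hy']
  zero_mem' := by
    show (0 : F) ^ (2 ^ s) = 0
    exact zero_pow (by positivity)
  neg_mem' := by
    intro x hx
    have hx' : x ^ (2 ^ s) = x := hx
    show (-x) ^ (2 ^ s) = -x
    rw [CharTwo.neg_eq]
    exact hx'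
  inv_mem' := by
    intro x hx
    have hx' : x ^ (2 ^ s) = x := hx
    show (x⁻¹) ^ (2 ^ s) = x⁻¹
    rw [inv_pow, hx']

theorem mem_powFix {F : Type*} [Field F] [CharP F 2] (s : ℕ) (x : F) :
    x ∈ powFix F s ↔ x ^ (2 ^ s) = x := Iff.rfl

theorem pow_pow_fix {F : Type*} [Monoid F] (c : F) (n : ℕ) (h : c ^ n = c) (d : ℕ) :
    c ^ (n ^ d) = c := by
  induction d with
  | zero => rw [pow_zero, pow_one]
  | succ d ih => rw [pow_succ, pow_mul, ih, h]

theorem mul_sq_sub_one_lt {x y : ℕ} (hx : 1 ≤ x) (hxy : x < y) :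
    x * (x ^ 2 - 1) < y * (y ^ 2 - 1) := by
  have h1 : x ^ 2 ≤ y ^ 2 := Nat.pow_le_pow_left hxy.le 2
  have h2 : x ^ 2 - 1 ≤ y ^ 2 - 1 := Nat.sub_le_sub_right h1 1
  have h3 : 0 < y ^ 2 - 1 := by
    have : 2 ^ 2 ≤ y ^ 2 := Nat.pow_le_pow_left (by omega) 2
    omega
  calc x * (x ^ 2 - 1) ≤ x * (y ^ 2 - 1) := Nat.mul_le_mul_left x h2
    _ < y * (y ^ 2 - 1) := Nat.mul_lt_mul_of_pos_right hxy h3

end subfield

section lie

variable {F : Type*} [Field F] [Fintype F] [CharP F 2]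

/-- a maximal subgroup of `PSL₂(F)` (characteristic two) in standard Lie position is
`PSL₂(F₀)` for a subfield of prime index -/
theorem lie_coatom_cases (M : Subgroup (Matrix.ProjectiveSpecialLinearGroup (Fin 2) F))
    (hM : IsCoatom M) (q₀ : ℕ) (hq₀ : 3 ≤ q₀) (hstd : LieStd M q₀)
    (hcard : Nat.card M = q₀ * (q₀ ^ 2 - 1)) :
    ∃ (F₀ : Type) (_ : Field F₀) (_ : Fintype F₀) (r : ℕ), r.Prime ∧ Fintype.card F₀ ≠ 2 ∧
      Fintype.card F = Fintype.card F₀ ^ r ∧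
      Nonempty (M ≃* Matrix.ProjectiveSpecialLinearGroup (Fin 2) F₀) := by
  classical
  have h2 : (2 : F) = 0 := CharTwo.two_eq_zero
  obtain ⟨K₁, a₀, ha₀, hK₁, hu, hl⟩ := hstd
  obtain ⟨K, iF, iFt, ι, m, hm, hcardK, hιK, hιsurj⟩ :=
    Cfsg.Agent.Lib.Helper89.exists_small_field K₁
  rw [hK₁] at hcardK
  have hCK : CharP K 2 := RingHom.charP ι ι.injective 2
  have hK2 : (2 : K) = 0 := CharTwo.two_eq_zero
  have hu' : ∀ b : K, (QuotientGroup.mk (uSL (a₀ * ι b)) :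
      Matrix.ProjectiveSpecialLinearGroup (Fin 2) F) ∈ M := fun b => hu _ (hιK b)
  have hcardPSLK : Nat.card (Matrix.ProjectiveSpecialLinearGroup (Fin 2) K) =
      q₀ * (q₀ ^ 2 - 1) := by
    have h := card_psl2_mul_gcd (F := K)
    rw [(gcd_two_card_sub_one (F := K)).2 hK2, mul_one, hcardK] at h
    exact h
  have hiso := Cfsg.Agent.Lib.Helper89.dickson_lie_psl ι a₀ ha₀ M hu' hl
    (by rw [hcard, hcardPSLK])
  have hcardG : Nat.card (Matrix.ProjectiveSpecialLinearGroup (Fin 2) F) =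
      Fintype.card F * (Fintype.card F ^ 2 - 1) := by
    have h := card_psl2_mul_gcd (F := F)
    rw [(gcd_two_card_sub_one (F := F)).2 h2, mul_one] at h
    exact h
  have hF1 : 1 < Fintype.card F := Fintype.one_lt_card
  have hm0 : m ≠ 0 := by
    rintro rfl
    rw [pow_zero] at hm
    omega
  by_cases hmp : m.Prime
  · exact ⟨K, iF, iFt, m, hmp, by omega, hm.symm, hiso⟩
  exfalso
  rcases Nat.lt_or_ge m 2 with hlt | hge
  · have hm1 : m = 1 := by omega
    rw [hm1, pow_one, hcardK] at hm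
    apply hM.1
    rw [← Subgroup.card_eq_iff_eq_top, hcard, hcardG, ← hm]
  obtain ⟨d, hd, hd2, hdlt⟩ := Nat.exists_dvd_of_not_prime2 hge hmp
  obtain ⟨b, rfl⟩ := hd
  obtain ⟨j, -, hj⟩ := FiniteField.card K 2
  rw [hcardK] at hj hm
  -- the intermediate subfield
  obtain ⟨K₂, hK₂def⟩ : ∃ K₂ : Subfield F, K₂ = powFix F ((j : ℕ) * d) := ⟨_, rfl⟩
  have hK₂mem : ∀ x : F, x ∈ K₂ ↔ x ^ (q₀ ^ d) = x := by
    intro x
    rw [hK₂def, mem_powFix, pow_mul, ← hj]
  have hFin₁ : Fintype K₁ := Fintype.ofFinite K₁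
  have hcK₁ : Fintype.card K₁ = q₀ := by
    rw [← Nat.card_eq_fintype_card]
    exact hK₁
  have hf1 : ∀ c ∈ K₁, c ^ q₀ = c := by
    intro c hc
    have h := FiniteField.pow_card (⟨c, hc⟩ : K₁)
    rw [hcK₁] at h
    have h' := congrArg K₁.subtype h
    simpa using h'
  have hK₁₂ : K₁ ≤ K₂ := by
    intro c hc
    rw [hK₂mem]
    exact pow_pow_fix c q₀ (hf1 c hc) d
  have hq1lt : q₀ ^ d < Fintype.card F := by
    rw [← hm]
    exact Nat.pow_lt_pow_right (by omega) hdlt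
  have hq1gt : q₀ < q₀ ^ d := by
    calc q₀ = q₀ ^ 1 := (pow_one q₀).symm
      _ < q₀ ^ d := Nat.pow_lt_pow_right (by omega) (by omega)
  obtain ⟨g, hg⟩ := IsCyclic.exists_generator (α := Fˣ)
  have hog : orderOf g = Fintype.card F - 1 := by
    rw [orderOf_eq_card_of_forall_mem_zpowers hg, Nat.card_units, Nat.card_eq_fintype_card]
  have hkey : ∀ (u : Fˣ) (n : ℕ), 1 ≤ n → (u : F) ^ n = (u : F) → u ^ (n - 1) = 1 := by
    intro u n hn h
    have h1 : u ^ n = u := Units.ext (by rw [Units.val_pow_eq_pow_val]; exact h)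
    obtain ⟨n', rfl⟩ : ∃ n', n = n' + 1 := ⟨n - 1, by omega⟩
    rw [Nat.add_sub_cancel]
    rw [pow_succ] at h1
    exact mul_eq_right.mp h1
  have hx : (g : F) ∉ K₂ := by
    intro hx
    rw [hK₂mem] at hx
    have h1 := hkey g (q₀ ^ d) (by omega) hx
    have h3 := Nat.le_of_dvd (by omega) (orderOf_dvd_of_pow_eq_one h1)
    omega
  obtain ⟨kk, hkk⟩ : q₀ ^ d - 1 ∣ Fintype.card F - 1 := by
    have h := Nat.sub_dvd_pow_sub_pow (q₀ ^ d) 1 b
    rw [one_pow, ← pow_mul, hm] at h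
    exact h
  have hkkpos : 0 < kk := by
    rcases Nat.eq_zero_or_pos kk with h | h
    · rw [h, mul_zero] at hkk
      omega
    · exact h
  have hy₂ : ((g ^ kk : Fˣ) : F) ∈ K₂ := by
    rw [hK₂mem]
    have h1 : (g ^ kk) ^ (q₀ ^ d - 1) = 1 := by
      rw [← pow_mul, mul_comm, ← hkk, ← hog]
      exact pow_orderOf_eq_one g
    have h3 : (g ^ kk) ^ (q₀ ^ d) = g ^ kk := by
      obtain ⟨n', hn'⟩ : ∃ n', q₀ ^ d = n' + 1 := ⟨q₀ ^ d - 1, by omega⟩
      rw [hn'] at h1 ⊢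
      rw [Nat.add_sub_cancel] at h1
      rw [pow_succ, h1, one_mul]
    have h4 := congrArg (fun u : Fˣ => (u : F)) h3
    simpa using h4
  have hy₁ : ((g ^ kk : Fˣ) : F) ∉ K₁ := by
    intro hy
    have h1 := hkey (g ^ kk) q₀ (by omega) (hf1 _ hy)
    rw [← pow_mul] at h1
    have h3 := orderOf_dvd_of_pow_eq_one h1
    rw [hog, hkk, mul_comm] at h3
    have h4 := Nat.dvd_of_mul_dvd_mul_left hkkpos h3
    have h5 := Nat.le_of_dvd (by omega) h4
    omega
  have hFin₂ : Fintype K₂ := Fintype.ofFinite K₂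
  have hcK₂ : Fintype.card K₂ = Nat.card K₂ := (Nat.card_eq_fintype_card).symm
  have hlt₁ : q₀ < Nat.card K₂ := by
    rw [← hcK₁, ← hcK₂]
    refine Fintype.card_lt_of_injective_of_notMem (fun c : K₁ => (⟨c.1, hK₁₂ c.2⟩ : K₂))
      (fun c c' h => Subtype.ext (show (c : F) = (c' : F) from
        congrArg (fun z : K₂ => (z : F)) h)) (b := ⟨_, hy₂⟩) ?_
    rintro ⟨c, hc⟩
    have h : (c : F) = ((g ^ kk : Fˣ) : F) := congrArg Subtype.val hc
    exact hy₁ (h ▸ c.2)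
  have hlt₂ : Nat.card K₂ < Fintype.card F := by
    rw [← hcK₂]
    refine Fintype.card_lt_of_injective_of_notMem (fun c : K₂ => (c : F))
      Subtype.val_injective (b := (g : F)) ?_
    rintro ⟨c, hc⟩
    have h : (c : F) = (g : F) := hc
    exact hx (h ▸ c.2)
  -- the intermediate subgroup
  obtain ⟨ψ₂, hψ₂⟩ : ∃ ψ₂ : Matrix.SpecialLinearGroup (Fin 2) K₂ →*
      Matrix.ProjectiveSpecialLinearGroup (Fin 2) F,
      ψ₂ = (QuotientGroup.mk' (Subgroup.center (Matrix.SpecialLinearGroup (Fin 2) F))).comp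
        (Cfsg.Agent.Lib.Helper89.psi0 K₂.subtype a₀ ha₀) := ⟨_, rfl⟩
  have hψ₂inj : Function.Injective ψ₂ := by
    rw [hψ₂]
    exact mk_injective_char2.comp (Cfsg.Agent.Lib.Helper89.psi0_injective _ _ _)
  have hcardL : Nat.card ψ₂.range = Nat.card K₂ * (Nat.card K₂ ^ 2 - 1) := by
    rw [← Nat.card_congr (MonoidHom.ofInjective hψ₂inj).toEquiv,
      Cfsg.Agent.Lib.Helper5.card_SL2, hcK₂]
  obtain ⟨ψ₁, hψ₁⟩ : ∃ ψ₁ : Matrix.SpecialLinearGroup (Fin 2) K →*
      Matrix.ProjectiveSpecialLinearGroup (Fin 2) F,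
      ψ₁ = (QuotientGroup.mk' (Subgroup.center (Matrix.SpecialLinearGroup (Fin 2) F))).comp
        (Cfsg.Agent.Lib.Helper89.psi0 ι a₀ ha₀) := ⟨_, rfl⟩
  have hψ₁inj : Function.Injective ψ₁ := by
    rw [hψ₁]
    exact mk_injective_char2.comp (Cfsg.Agent.Lib.Helper89.psi0_injective _ _ _)
  have hle₁ : ψ₁.range ≤ M := by
    rintro _ ⟨Y, rfl⟩
    rw [hψ₁]
    exact Cfsg.Agent.Lib.Helper89.psi0_mem ι a₀ ha₀ (M.comap (QuotientGroup.mk' _)) hu' hl Y
  have hcard₁ : Nat.card ψ₁.range = q₀ * (q₀ ^ 2 - 1) := by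
    rw [← Nat.card_congr (MonoidHom.ofInjective hψ₁inj).toEquiv,
      Cfsg.Agent.Lib.Helper5.card_SL2, hcardK]
  have heq₁ : ψ₁.range = M :=
    Subgroup.eq_of_le_of_card_ge hle₁ (by rw [hcard₁, hcard])
  have hle₂ : ψ₁.range ≤ ψ₂.range := by
    rintro _ ⟨Y, rfl⟩
    rw [hψ₁]
    refine Cfsg.Agent.Lib.Helper89.psi0_mem ι a₀ ha₀ (ψ₂.range.comap (QuotientGroup.mk' _))
      ?_ ?_ Y
    · intro b'
      refine ⟨uSL (⟨ι b', hK₁₂ (hιK b')⟩ : K₂), ?_⟩
      rw [hψ₂]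
      show QuotientGroup.mk' _ (Cfsg.Agent.Lib.Helper89.psi0 K₂.subtype a₀ ha₀ (uSL _)) = _
      rw [Cfsg.Agent.Lib.Helper89.psi0_uSL]
      rfl
    · refine ⟨lSL (1 : K₂), ?_⟩
      rw [hψ₂]
      show QuotientGroup.mk' _ (Cfsg.Agent.Lib.Helper89.psi0 K₂.subtype a₀ ha₀ (lSL _)) = _
      rw [Cfsg.Agent.Lib.Helper89.psi0_lSL, map_one, mul_one]
  rw [heq₁] at hle₂
  have hLtop : ψ₂.range ≠ ⊤ := by
    intro h
    have h1 := hcardL
    rw [h, Subgroup.card_top, hcardG] at h1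
    have h3 := mul_sq_sub_one_lt (by omega) hlt₂
    omega
  have hLM := (hM.le_iff_eq hLtop).mp hle₂
  have h1 := hcardL
  rw [hLM, hcard] at h1
  have h3 := mul_sq_sub_one_lt (by omega) hlt₁
  omega

end lie

end Cfsg.Agent.Lib.Helper98
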