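import Mathlib

/-!
Small reusable lemmas (helper98):
* `interval_of_isCoatom_subgroupOf`, `isCoatom_subgroupOf_of_interval`: translate
  `IsCoatom (H.subgroupOf K)` to and from the interval form inside `Subgroup G`.
* `stabilizer_le_of_swaps`: a subgroup of `Perm α` containing all swaps of points different from `a`
  contains the stabilizer of `a`.
-/

set_option autoImplicit false

namespace Cfsg.Agent.Lib.Helper98

theorem interval_of_isCoatom_subgroupOf {G : Type*} [Group G] (H M : Subgroup G) (hHM : H ≤ M)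
    (hmax : IsCoatom (H.subgroupOf M)) (J : Subgroup G) (hHJ : H ≤ J) (hJM : J ≤ M) :
    J = H ∨ J = M := by
  by_cases h : J.subgroupOf M = H.subgroupOf M
  · left
    have h1 := congrArg (Subgroup.map M.subtype) h
    rwa [Subgroup.map_subgroupOf_eq_of_le hJM, Subgroup.map_subgroupOf_eq_of_le hHM] at h1
  · right
    have hlt : H.subgroupOf M < J.subgroupOf M :=
      lt_of_le_of_ne (Subgroup.subgroupOf_mono M hHJ) (Ne.symm h)
    have h1 := hmax.2 _ hlt
    rw [Subgroup.subgroupOf_eq_top] at h1
    exact le_antisymm hJM h1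

theorem isCoatom_subgroupOf_of_interval {G : Type*} [Group G] (H K : Subgroup G) (hHK : H ≤ K)
    (hne : H ≠ K) (h : ∀ L : Subgroup G, H ≤ L → L ≤ K → L = H ∨ L = K) :
    IsCoatom (H.subgroupOf K) := by
  constructor
  · rw [Ne, Subgroup.subgroupOf_eq_top]
    intro hKH
    exact hne (le_antisymm hHK hKH)
  · intro L' hlt
    have h1 : H ≤ L'.map K.subtype := by
      have h0 := Subgroup.map_mono (f := K.subtype) hlt.le
      rwa [Subgroup.map_subgroupOf_eq_of_le hHK] at h0
    have h2 : L'.map K.subtype ≤ K := Subgroup.map_subtype_le L'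
    have h4 : (L'.map K.subtype).subgroupOf K = L' :=
      Subgroup.comap_map_eq_self_of_injective K.subtype_injective L'
    rcases h _ h1 h2 with h3 | h3
    · exfalso
      rw [h3] at h4
      exact hlt.ne h4
    · rw [h3, Subgroup.subgroupOf_self] at h4
      exact h4.symm

theorem stabilizer_le_of_swaps {α : Type*} [Finite α] [DecidableEq α] (a : α)
    (J : Subgroup (Equiv.Perm α))
    (h : ∀ u v : α, u ≠ a → v ≠ a → Equiv.swap u v ∈ J) :
    MulAction.stabilizer (Equiv.Perm α) a ≤ J := by
  intro σ hσ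
  have hσa : σ a = a := hσ
  have h₁ : ∀ x, (σ x ≠ a) ↔ (x ≠ a) := by
    intro x
    rw [not_iff_not]
    constructor
    · intro hx
      apply σ.injective
      rw [hx, hσa]
    · intro hx
      rw [hx, hσa]
  have h₂ : ∀ x, σ x ≠ x → x ≠ a := fun x hx hxa => hx (hxa ▸ hσa)
  have key := Equiv.Perm.ofSubtype_subtypePerm (p := fun x => x ≠ a) h₁ h₂
  rw [← key]
  have hmem : σ.subtypePerm h₁ ∈
      Subgroup.closure {τ : Equiv.Perm {x // x ≠ a} | τ.IsSwap} := by
    rw [Equiv.Perm.closure_isSwap]
    exact Subgroup.mem_top _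
  have hle : Subgroup.closure {τ : Equiv.Perm {x // x ≠ a} | τ.IsSwap} ≤
      J.comap Equiv.Perm.ofSubtype := by
    rw [Subgroup.closure_le]
    rintro τ ⟨u, v, -, rfl⟩
    change Equiv.Perm.ofSubtype (Equiv.swap u v) ∈ J
    rw [Equiv.Perm.ofSubtype_swap_eq]
    exact h _ _ u.2 v.2
  exact hle hmem

end Cfsg.Agent.Lib.Helper98
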